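import Groth.Agent.Gaga.H883.SerreRel
import Groth.Agent.Gaga.H977.Van

/-!
# Algebraic vanishing for large twists on `P^n_X`
-/

set_option autoImplicit false

noncomputable section

open AlgebraicGeometry CategoryTheory CategoryTheory.Limits TopologicalSpace Opposite Topology

namespace Groth.Agent.Gaga.H977.AlgVan

open Groth.Agent.Gaga.H977.GagaNat Groth.Agent.Gaga.H977.CanAcyc Groth.Agent.Gaga.H977.Van

/-- Vanishing over the preimages of affine opens gives local acyclicity. -/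
theorem locAcyc_of_HU {X Y : Scheme.{0}} (f : X ⟶ Y) (M : X.Modules)
    (h : ∀ q : ℕ, 1 ≤ q → ∀ V : Y.Opens, IsAffineOpen V →
      Subsingleton (CohTop.HU (X := X.toTopCat) (Coh.toAb M) q (f ⁻¹ᵁ V))) :
    LocAcyc (X := (X : TopCat.{0})) (Y := (Y : TopCat.{0})) f.base ((toAbX X).obj M) := by
  intro q V a y hy
  obtain ⟨W, hW, hyW, hWV⟩ := exists_isAffineOpen_mem_and_subset (x := y) (U := V) hy
  refine ⟨W, hWV, hyW, ?_⟩
  have := h (q + 1) (by omega) W hW
  exact Subsingleton.elim (α := CohTop.HU (X := X.toTopCat) (Coh.toAb M) (q + 1) (f ⁻¹ᵁ W)) _ _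

theorem subsingleton_ext_of_iso {C : Type*} [Category* C] [Abelian C] [HasExt C] {Z F G : C}
    (e : F ≅ G) (n : ℕ) (h : Subsingleton (Abelian.Ext Z G n)) :
    Subsingleton (Abelian.Ext Z F n) := by
  refine subsingleton_of_forall_eq 0 fun x => ?_
  have h1 := Abelian.Ext.comp_mk₀_id x
  rw [← e.hom_inv_id, ← Abelian.Ext.mk₀_comp_mk₀, ← Abelian.Ext.comp_assoc_of_third_deg_zero,
    Subsingleton.elim (x.comp (Abelian.Ext.mk₀ e.hom) (add_zero n)) 0,
    Abelian.Ext.zero_comp] at h1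
  exact h1.symm

theorem subsingleton_HU_of_iso {T : TopCat.{0}} {F G : CohTop.Ab T} (e : F ≅ G) (n : ℕ)
    (V : Opens T) (h : Subsingleton (CohTop.HU G n V)) : Subsingleton (CohTop.HU F n V) :=
  subsingleton_ext_of_iso e n h

/-- Relative Serre vanishing on `P^n_X` for modules in the form used here. -/
theorem exists_HU (n : ℕ) {X : Scheme.{0}} [IsNoetherian X]
    (N : (CohB1.ProjSpaceOver n X).Modules) (hN : Coh.IsCoh N) :
    ∃ k₀ : ℕ, ∀ k : ℤ, (k₀ : ℤ) ≤ k → ∀ q : ℕ, 1 ≤ q → ∀ V : X.Opens, IsAffineOpen V →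
      Subsingleton (CohTop.HU (X := (CohB1.ProjSpaceOver n X).toTopCat)
        (Coh.toAb (((DCoh.tensorBi (X := CohB1.ProjSpaceOver n X)).obj N).obj
          (Twist.twistOver n X k))) q ((CohB1.ProjSpaceOver.toBase n X) ⁻¹ᵁ V)) := by
  obtain ⟨k₀, hk₀⟩ := Groth.Agent.Gaga.H883.SerreRel.exists_serre_twist n
    (𝟙 (CohB1.ProjSpaceOver n X)) hN
  refine ⟨k₀, fun k hk q hq V hV => ?_⟩
  have h1 := (hk₀ k hk).2.1 q hq V hV
  have e1 : ((DCoh.tensorBi (X := CohB1.ProjSpaceOver n X)).obj N).obj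
      (Twist.twistOver n X k) ≅ ((DCoh.tensorBi (X := CohB1.ProjSpaceOver n X)).obj N).obj
      ((Scheme.Modules.pullback (𝟙 (CohB1.ProjSpaceOver n X))).obj (Twist.twistOver n X k)) :=
    ((DCoh.tensorBi (X := CohB1.ProjSpaceOver n X)).obj N).mapIso
      ((Scheme.Modules.pullbackId (CohB1.ProjSpaceOver n X)).app _).symm
  rw [Category.id_comp] at h1
  exact subsingleton_HU_of_iso (T := (CohB1.ProjSpaceOver n X).toTopCat)
    ((toAbX (CohB1.ProjSpaceOver n X)).mapIso e1) q _ h1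

/-- **Algebraic local acyclicity** of large twists on `P^n_X ⟶ X`. -/
theorem exists_locAcyc (n : ℕ) {X : Scheme.{0}} [IsNoetherian X]
    (N : (CohB1.ProjSpaceOver n X).Modules) (hN : Coh.IsCoh N) :
    ∃ k₀ : ℕ, ∀ k : ℤ, (k₀ : ℤ) ≤ k →
      LocAcyc (X := (CohB1.ProjSpaceOver n X : TopCat.{0})) (Y := (X : TopCat.{0}))
        (CohB1.ProjSpaceOver.toBase n X).base
        ((toAbX (CohB1.ProjSpaceOver n X)).obj
          (((DCoh.tensorBi (X := CohB1.ProjSpaceOver n X)).obj N).obj (Twist.twistOver n X k))) := by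
  obtain ⟨k₀, hk₀⟩ := exists_HU n N hN
  exact ⟨k₀, fun k hk => locAcyc_of_HU _ _ (hk₀ k hk)⟩

/-- **Serre vanishing** on `P^n_S`, `S` affine. -/
theorem exists_vanAlg (n : ℕ) {S : Scheme.{0}} [IsNoetherian S] [IsAffine S]
    (N : (CohB1.ProjSpaceOver n S).Modules) (hN : Coh.IsCoh N) :
    ∃ k₀ : ℕ, ∀ k : ℤ, (k₀ : ℤ) ≤ k →
      VanAlg (((DCoh.tensorBi (X := CohB1.ProjSpaceOver n S)).obj N).obj
        (Twist.twistOver n S k)) := by
  obtain ⟨k₀, hk₀⟩ := exists_HU n N hN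
  refine ⟨k₀, fun k hk q => ?_⟩
  have h1 := hk₀ k hk (q + 1) (by omega) ⊤ (isAffineOpen_top S)
  have h2 : Subsingleton (CohTop.HU (X := (CohB1.ProjSpaceOver n S).toTopCat)
    (Coh.toAb (((DCoh.tensorBi (X := CohB1.ProjSpaceOver n S)).obj N).obj
      (Twist.twistOver n S k))) (q + 1) ⊤) := h1
  exact (Groth.Agent.CohtopA.Flasque.HTopEquiv (X := (CohB1.ProjSpaceOver n S).toTopCat)
    (Coh.toAb (((DCoh.tensorBi (X := CohB1.ProjSpaceOver n S)).obj N).obj
      (Twist.twistOver n S k))) (q + 1)).toEquiv.subsingleton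

end Groth.Agent.Gaga.H977.AlgVan
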