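import Groth.Agent.Gaga.H975.DFin
import Groth.Agent.Gaga.H977.RelAcyc3

/-!
# Acyclicity of large twists along the fibres of `P^n_X ⟶ X`, unconditionally
-/

set_option autoImplicit false

noncomputable section

open AlgebraicGeometry CategoryTheory CategoryTheory.Limits TopologicalSpace Opposite Topology

namespace Groth.Agent.Gaga.H977.RelAcyc

open Groth.Agent.Gaga.H41.Ind Groth.Agent.Gaga.H988.Base Groth.Agent.Gaga.H988.PnInst

/-- Acyclicity of large twists along the fibres of `P^n(ℂ) × ℂ^m ⟶ ℂ^m`. -/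
theorem hypPoly (n : ℕ) : HypPoly n := by
  intro m
  letI i1 := overB (MvPolynomial (Fin m) ℂ)
  letI i2 := overStd n (MvPolynomial (Fin m) ℂ)
  have i3 : StdB (MvPolynomial (Fin m) ℂ) := stdB_overB (MvPolynomial (Fin m) ℂ)
  have i4 : Groth.Agent.Gaga.H988.PnPts.StdOver n (MvPolynomial (Fin m) ℂ) :=
    stdOver_overStd n (MvPolynomial (Fin m) ℂ)
  intro M hM
  obtain ⟨k₀, hk₀⟩ := Groth.Agent.Gaga.H975.DFin.exists_acyc (coordPoly m) hM
  exact ⟨k₀, fun k hk q hq y => hk₀ k hk q hq y⟩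

end Groth.Agent.Gaga.H977.RelAcyc
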